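import Groth.Agent.H9Misc.TFactor
import Groth.Prelude.Def_WeakSerre
import Mathlib.Algebra.Homology.DerivedCategory.ExactFunctor
import Mathlib.CategoryTheory.Triangulated.Adjunction

/-!
# Dévissage along truncations
-/

set_option autoImplicit false

universe w w' v v' u u'

open CategoryTheory CategoryTheory.Limits Pretriangulated DerivedCategory

namespace Groth.Agent.SiteBase.RpushD

variable {A : Type u} [Category.{v} A] [Abelian A] [HasDerivedCategory.{w} A]
  {B : Type u'} [Category.{v'} B] [Abelian B] [HasDerivedCategory.{w'} B]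

/-- The five-term property of a weak Serre class. -/
lemma prop_middle {P : ObjectProperty A} [WSerre.IsWeakSerre P] {X₁ X₂ X₃ X₄ X₅ : A}
    {f₁ : X₁ ⟶ X₂} {f₂ : X₂ ⟶ X₃} {f₃ : X₃ ⟶ X₄} {f₄ : X₄ ⟶ X₅}
    {w₁ : f₁ ≫ f₂ = 0} {w₂ : f₂ ≫ f₃ = 0} {w₃ : f₃ ≫ f₄ = 0}
    (e₁ : (ShortComplex.mk f₁ f₂ w₁).Exact) (e₂ : (ShortComplex.mk f₂ f₃ w₂).Exact)
    (e₃ : (ShortComplex.mk f₃ f₄ w₃).Exact)
    (h₁ : P X₁) (h₂ : P X₂) (h₄ : P X₄) (h₅ : P X₅) : P X₃ := by
  let c : cokernel f₁ ⟶ X₃ := cokernel.desc f₁ f₂ w₁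
  let k : X₃ ⟶ kernel f₄ := kernel.lift f₄ f₃ w₃
  have hck : c ≫ k = 0 := by
    rw [← cancel_epi (cokernel.π f₁), ← cancel_mono (kernel.ι f₄)]
    simp [c, k, w₂]
  have : Mono c := e₁.mono_cokernelDesc
  have : Epi k := e₃.epi_kernelLift
  have hS : (ShortComplex.mk c k hck).ShortExact := by
    refine ShortComplex.ShortExact.mk' ?_ inferInstance inferInstance
    let T : ShortComplex A := ShortComplex.mk f₂ f₃ w₂
    let T' : ShortComplex A := ShortComplex.mk c f₃ (by
      rw [← cancel_epi (cokernel.π f₁)]; simp [c, w₂])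
    have hT' : T'.Exact := (ShortComplex.exact_iff_of_epi_of_isIso_of_mono
      ({ τ₁ := cokernel.π f₁, τ₂ := 𝟙 _, τ₃ := 𝟙 _, comm₁₂ := by simp [T, T', c] } : T ⟶ T')).1 e₂
    let T'' : ShortComplex A := ShortComplex.mk c k hck
    exact (ShortComplex.exact_iff_of_epi_of_isIso_of_mono
      ({ τ₁ := 𝟙 _, τ₂ := 𝟙 _, τ₃ := kernel.ι f₄, comm₂₃ := by simp [T', T'', k] } : T'' ⟶ T')).2 hT'
  exact P.prop_X₂_of_shortExact hS
    (P.prop_of_isColimit_cokernelCofork (colimit.isColimit _) h₁ h₂)
    (P.prop_of_isLimit_kernelFork (limit.isLimit _) h₄ h₅)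

/-- Objects with cohomology in a weak Serre class are closed under extensions. -/
lemma cohIn_obj₂ {P : ObjectProperty A} [WSerre.IsWeakSerre P] (T : Triangle (DerivedCategory A))
    (hT : T ∈ distTriang (DerivedCategory A)) (h₁ : WSerre.cohIn P T.obj₁)
    (h₃ : WSerre.cohIn P T.obj₃) : WSerre.cohIn P T.obj₂ := fun i =>
  prop_middle (HomologySequence.exact₁ T hT (i - 1) i (by omega))
    (HomologySequence.exact₂ T hT i) (HomologySequence.exact₃ T hT i (i + 1) rfl)
    (h₃ (i - 1)) (h₁ i) (h₃ i) (h₁ (i + 1))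

lemma cohIn_of_iso {P : ObjectProperty A} [P.IsClosedUnderIsomorphisms] {X Y : DerivedCategory A}
    (e : X ≅ Y) (h : WSerre.cohIn P X) : WSerre.cohIn P Y := fun i =>
  P.prop_of_iso ((DerivedCategory.homologyFunctor A i).mapIso e) (h i)

/-- A truncated piece in one degree. -/
lemma isGE_truncLT (Y : DerivedCategory A) (a m : ℤ) [Y.IsGE a] :
    (((DerivedCategory.TStructure.t).truncLT m).obj Y).IsGE a := by
  refine (isGE_iff _ _).2 fun i hi => ?_
  by_cases h : i < m
  · have := H9Misc.isIso_map_truncLTι m i h Y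
    exact (isZero_of_isGE Y a i hi).of_iso
      (asIso ((DerivedCategory.homologyFunctor A i).map
        (((DerivedCategory.TStructure.t).truncLTι m).app Y)))
  · have : (((DerivedCategory.TStructure.t).truncLT m).obj Y).IsLE (m - 1) :=
      (DerivedCategory.TStructure.t).isLE_truncLT_obj ..
    exact isZero_of_isLE _ (m - 1) i (by omega)

lemma isLE_truncGE (Y : DerivedCategory A) (b m : ℤ) [Y.IsLE b] :
    (((DerivedCategory.TStructure.t).truncGE m).obj Y).IsLE b := by
  refine (isLE_iff _ _).2 fun i hi => ?_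
  by_cases h : m ≤ i
  · have := H9Misc.isIso_map_truncGEπ m i h Y
    exact (isZero_of_isLE Y b i hi).of_iso
      (asIso ((DerivedCategory.homologyFunctor A i).map
        (((DerivedCategory.TStructure.t).truncGEπ m).app Y))).symm
  · have : (((DerivedCategory.TStructure.t).truncGE m).obj Y).IsGE m :=
      (DerivedCategory.TStructure.t).isGE_truncGE_obj ..
    exact isZero_of_isGE _ m i (by omega)

/-- A property closed under extensions holds for bounded objects if it holds for their cohomology
objects. -/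
lemma prop_of_bounded (P : ObjectProperty (DerivedCategory A)) [P.IsClosedUnderIsomorphisms]
    (hP : ∀ T ∈ distTriang (DerivedCategory A), P T.obj₁ → P T.obj₃ → P T.obj₂) :
    ∀ (d : ℕ) (Y : DerivedCategory A) (a : ℤ) [Y.IsGE a] [Y.IsLE (a + d)],
      (∀ q, a ≤ q → q ≤ a + d →
        P ((singleFunctor A q).obj ((DerivedCategory.homologyFunctor A q).obj Y))) → P Y := by
  intro d
  induction d with
  | zero =>
    intro Y a _ hle h
    have : Y.IsLE a := by simpa using hle
    obtain ⟨G, ⟨e⟩⟩ := exists_iso_singleFunctor_obj_of_isGE_of_isLE Y a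
    exact P.prop_of_iso ((singleFunctor A a).mapIso ((DerivedCategory.homologyFunctor A a).mapIso e ≪≫
      (singleFunctorCompHomologyFunctorIso A a).app G) ≪≫ e.symm) (h a le_rfl (by omega))
  | succ d ih =>
    intro Y a _ _ h
    let T := ((DerivedCategory.TStructure.t).triangleLTGE (a + 1)).obj Y
    refine hP T ((DerivedCategory.TStructure.t).triangleLTGE_distinguished (a + 1) Y) ?_ ?_
    · have : T.obj₁.IsGE a := isGE_truncLT Y a (a + 1)
      have : T.obj₁.IsLE a := (DerivedCategory.TStructure.t).isLE_truncLT_obj ..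
      obtain ⟨G, ⟨e⟩⟩ := exists_iso_singleFunctor_obj_of_isGE_of_isLE T.obj₁ a
      have := H9Misc.isIso_map_truncLTι (a + 1) a (by omega) Y
      exact P.prop_of_iso ((singleFunctor A a).mapIso
        ((asIso ((DerivedCategory.homologyFunctor A a).map
          (((DerivedCategory.TStructure.t).truncLTι (a + 1)).app Y))).symm ≪≫
          (DerivedCategory.homologyFunctor A a).mapIso e ≪≫
          (singleFunctorCompHomologyFunctorIso A a).app G) ≪≫ e.symm) (h a le_rfl (by omega))
    · have : T.obj₃.IsGE (a + 1) := (DerivedCategory.TStructure.t).isGE_truncGE_obj ..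
      have : T.obj₃.IsLE (a + 1 + d) := by
        rw [show a + 1 + (d : ℤ) = a + (d + 1 : ℕ) by omega]
        exact isLE_truncGE Y _ _
      refine ih T.obj₃ (a + 1) fun q hq hq' => ?_
      let e : (DerivedCategory.homologyFunctor A q).obj Y ≅
          (DerivedCategory.homologyFunctor A q).obj T.obj₃ :=
        @asIso _ _ _ _ _ (H9Misc.isIso_map_truncGEπ (a + 1) q hq Y)
      exact P.prop_of_iso ((singleFunctor A q).mapIso e) (h q (by omega) (by omega))

lemma isIso_app_shift {F G : DerivedCategory A ⥤ DerivedCategory B} [F.CommShift ℤ]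
    [G.CommShift ℤ] (τ : F ⟶ G) [NatTrans.CommShift τ ℤ] (X : DerivedCategory A) [IsIso (τ.app X)]
    (n : ℤ) : IsIso (τ.app (X⟦n⟧)) := by
  rw [NatTrans.app_shift]
  infer_instance

/-- A natural transformation of triangulated functors which are left exact is invertible on bounded
below objects as soon as it is invertible on their cohomology objects. -/
theorem isIso_app_of_isGE {F G : DerivedCategory A ⥤ DerivedCategory B} [F.CommShift ℤ]
    [G.CommShift ℤ] [F.IsTriangulated] [G.IsTriangulated] (τ : F ⟶ G) [NatTrans.CommShift τ ℤ]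
    (hF : ∀ (X : DerivedCategory A) (n : ℤ), X.IsGE n → (F.obj X).IsGE n)
    (hG : ∀ (X : DerivedCategory A) (n : ℤ), X.IsGE n → (G.obj X).IsGE n)
    (Y : DerivedCategory A) (n₀ : ℤ) [Y.IsGE n₀]
    (h : ∀ q : ℤ, IsIso (τ.app ((singleFunctor A 0).obj ((DerivedCategory.homologyFunctor A q).obj Y)))) :
    IsIso (τ.app Y) := by
  let P : ObjectProperty (DerivedCategory A) := fun X => IsIso (τ.app X)
  have : P.IsClosedUnderIsomorphisms := ⟨fun e he => (NatTrans.isIso_app_iff_of_iso τ e).1 he⟩
  have hP : ∀ T ∈ distTriang (DerivedCategory A), P T.obj₁ → P T.obj₃ → P T.obj₂ := fun T hT h₁ h₃ =>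
    isIso₂_of_isIso₁₃ (Triangle.homMk (F.mapTriangle.obj T) (G.mapTriangle.obj T)
      (τ.app T.obj₁) (τ.app T.obj₂) (τ.app T.obj₃) (τ.naturality _) (τ.naturality _) (by
        refine (Category.assoc _ _ _).trans ((congrArg (F.map T.mor₃ ≫ ·)
          (NatTrans.shift_app_comm τ (1 : ℤ) T.obj₁)).trans ?_)
        exact (Category.assoc _ _ _).symm.trans
          ((congrArg (· ≫ _) (τ.naturality T.mor₃)).trans (Category.assoc _ _ _))))
      (F.map_distinguished T hT) (G.map_distinguished T hT) h₁ h₃
  have hs : ∀ (q j : ℤ) (M : A), P ((singleFunctor A 0).obj M) → P ((singleFunctor A q).obj M) :=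
    fun q _ M hM => by
      have : IsIso (τ.app ((singleFunctor A 0).obj M)) := hM
      exact P.prop_of_iso (((singleFunctors A).shiftIso (-q) q 0 (by omega)).app M)
        (isIso_app_shift τ _ (-q))
  refine (DerivedCategory.isIso_iff _ (τ.app Y)).2 fun q => ?_
  let m := max (q + 2) (n₀ + 1)
  let T := ((DerivedCategory.TStructure.t).triangleLTGE m).obj Y
  have hT := (DerivedCategory.TStructure.t).triangleLTGE_distinguished m Y
  have : T.obj₁.IsGE n₀ := isGE_truncLT Y n₀ m
  have : T.obj₁.IsLE (n₀ + (m - 1 - n₀).toNat) := by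
    have : T.obj₁.IsLE (m - 1) := (DerivedCategory.TStructure.t).isLE_truncLT_obj ..
    exact (DerivedCategory.TStructure.t).isLE_of_le _ (m - 1) _ (by omega)
  have h₁ : IsIso (τ.app T.obj₁) := prop_of_bounded P hP (m - 1 - n₀).toNat T.obj₁ n₀ fun r hr hr' => by
    have := H9Misc.isIso_map_truncLTι m r (by omega) Y
    exact P.prop_of_iso ((singleFunctor A r).mapIso (asIso ((DerivedCategory.homologyFunctor A r).map
      (((DerivedCategory.TStructure.t).truncLTι m).app Y))).symm) (hs r 0 _ (h r))
  have hm : T.obj₃.IsGE m := (DerivedCategory.TStructure.t).isGE_truncGE_obj ..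
  have hq : ∀ (Φ : DerivedCategory A ⥤ DerivedCategory B) [Φ.CommShift ℤ] [Φ.IsTriangulated],
      (∀ (X : DerivedCategory A) (n : ℤ), X.IsGE n → (Φ.obj X).IsGE n) →
      IsIso ((DerivedCategory.homologyFunctor B q).map (Φ.map T.mor₁)) := fun Φ _ _ hΦ => by
    have := hΦ _ _ hm
    have hm₁ : Mono ((DerivedCategory.homologyFunctor B q).map (Φ.mapTriangle.obj T).mor₁) :=
      (HomologySequence.mono_homologyMap_mor₁_iff _ (Φ.map_distinguished T hT) (q - 1) q).2
        ((isZero_of_isGE (Φ.obj T.obj₃) m (q - 1) (by omega)).eq_of_src _ _)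
    have he₁ : Epi ((DerivedCategory.homologyFunctor B q).map (Φ.mapTriangle.obj T).mor₁) :=
      (HomologySequence.epi_homologyMap_mor₁_iff _ (Φ.map_distinguished T hT) q).2
        ((isZero_of_isGE (Φ.obj T.obj₃) m q (by omega)).eq_of_tgt _ _)
    exact @isIso_of_mono_of_epi _ _ _ _ _ _ hm₁ he₁
  have hFq := hq F hF
  have hGq := hq G hG
  have e := congrArg (DerivedCategory.homologyFunctor B q).map (τ.naturality T.mor₁)
  rw [Functor.map_comp, Functor.map_comp] at e
  exact @IsIso.of_isIso_fac_left _ _ _ _ _ _ _ _ hFq (@IsIso.comp_isIso _ _ _ _ _ _ _ ((DerivedCategory.homologyFunctor B q).map_isIso (τ.app T.obj₁)) hGq) e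

section Exact

variable (L : A ⥤ B) [L.Additive] [PreservesFiniteLimits L] [PreservesFiniteColimits L]

/-- Cohomology commutes with exact functors. -/
lemma nonempty_homology_mapDerived (Y : DerivedCategory A) (n : ℤ) :
    Nonempty ((DerivedCategory.homologyFunctor B n).obj (L.mapDerivedCategory.obj Y) ≅
      L.obj ((DerivedCategory.homologyFunctor A n).obj Y)) := by
  have := Localization.essSurj (DerivedCategory.Q (C := A))
    (HomologicalComplex.quasiIso A (ComplexShape.up ℤ))
  let K := DerivedCategory.Q.objPreimage Y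
  let e : DerivedCategory.Q.obj K ≅ Y := DerivedCategory.Q.objObjPreimageIso Y
  exact ⟨(DerivedCategory.homologyFunctor B n).mapIso
      (L.mapDerivedCategory.mapIso e.symm ≪≫ L.mapDerivedCategoryFactors.app K) ≪≫
    (DerivedCategory.homologyFunctorFactors B n).app _ ≪≫ (K.sc n).mapHomologyIso L ≪≫
    L.mapIso (((DerivedCategory.homologyFunctorFactors A n).app K).symm ≪≫
      (DerivedCategory.homologyFunctor A n).mapIso e)⟩

lemma isGE_mapDerived (Y : DerivedCategory A) (n : ℤ) (hY : Y.IsGE n) :
    (L.mapDerivedCategory.obj Y).IsGE n :=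
  (isGE_iff _ _).2 fun i hi => by
    obtain ⟨e⟩ := nonempty_homology_mapDerived L Y i
    exact (L.map_isZero (isZero_of_isGE Y n i hi)).of_iso e

lemma isLE_mapDerived (Y : DerivedCategory A) (n : ℤ) (hY : Y.IsLE n) :
    (L.mapDerivedCategory.obj Y).IsLE n :=
  (isLE_iff _ _).2 fun i hi => by
    obtain ⟨e⟩ := nonempty_homology_mapDerived L Y i
    exact (L.map_isZero (isZero_of_isLE Y n i hi)).of_iso e

variable {R : DerivedCategory B ⥤ DerivedCategory A} (adj : L.mapDerivedCategory ⊣ R)

include adj in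
/-- The right adjoint of an exact functor is left exact. -/
lemma isGE_right (X : DerivedCategory B) (n : ℤ) (hX : X.IsGE n) : (R.obj X).IsGE n := by
  refine ((DerivedCategory.TStructure.t).isGE_iff_orthogonal (n - 1) n (by omega) _).2 fun Z f hZ => ?_
  have := isLE_mapDerived L Z (n - 1) hZ
  refine (adj.homEquiv _ _).symm.injective ?_
  exact ((DerivedCategory.TStructure.t).zero _ (n - 1) n).trans
    ((DerivedCategory.TStructure.t).zero _ (n - 1) n).symm

variable (R) in
omit [PreservesFiniteLimits L] [PreservesFiniteColimits L] in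
/-- The identity functor is left exact. -/
lemma isGE_id (X : DerivedCategory B) (n : ℤ) (hX : X.IsGE n) :
    ((𝟭 (DerivedCategory B)).obj X).IsGE n := hX

include adj in
/-- The unit is invertible on bounded below objects if it is on their cohomology objects. -/
theorem isIso_unit (Y : DerivedCategory A) (n₀ : ℤ) (hY : Y.IsGE n₀)
    (h : ∀ q : ℤ, IsIso (adj.unit.app ((singleFunctor A 0).obj
      ((DerivedCategory.homologyFunctor A q).obj Y)))) : IsIso (adj.unit.app Y) := by
  letI := adj.rightAdjointCommShift ℤ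
  have := adj.commShift_of_leftAdjoint ℤ
  have := adj.isTriangulated_rightAdjoint
  exact isIso_app_of_isGE adj.unit (fun X n hX => hX)
    (fun X n hX => isGE_right L adj _ n (isGE_mapDerived L X n hX)) Y n₀ h

include adj in
/-- The counit is invertible on bounded below objects if it is on their cohomology objects. -/
theorem isIso_counit (X : DerivedCategory B) (n₀ : ℤ) (hX : X.IsGE n₀)
    (h : ∀ q : ℤ, IsIso (adj.counit.app ((singleFunctor B 0).obj
      ((DerivedCategory.homologyFunctor B q).obj X)))) : IsIso (adj.counit.app X) := by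
  letI := adj.rightAdjointCommShift ℤ
  have := adj.commShift_of_leftAdjoint ℤ
  have := adj.isTriangulated_rightAdjoint
  exact isIso_app_of_isGE adj.counit
    (fun X n hX => isGE_mapDerived L _ n (isGE_right L adj X n hX)) (fun X n hX => hX) X n₀ h

/-- Equivalence of bounded below objects with cohomology in weak Serre classes. -/
theorem equivalence_plus {PA : ObjectProperty A} [WSerre.IsWeakSerre PA] {PB : ObjectProperty B}
    [WSerre.IsWeakSerre PB] (adj : L.mapDerivedCategory ⊣ R)
    (h2a : ∀ F, PA F → PB (L.obj F))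
    (h2c : ∀ G, PB G → ∃ F, PA F ∧ Nonempty (L.obj F ≅ G))
    (h3 : ∀ F, PA F → IsIso (adj.unit.app ((singleFunctor A 0).obj F))) :
    (∀ Y : DerivedCategory A, WSerre.cohInPlus PA Y →
      WSerre.cohInPlus PB (L.mapDerivedCategory.obj Y) ∧ IsIso (adj.unit.app Y)) ∧
    (∀ X : DerivedCategory B, WSerre.cohInPlus PB X →
      WSerre.cohInPlus PA (R.obj X) ∧ IsIso (adj.counit.app X)) := by
  refine ⟨?_, ?_⟩
  · rintro Y ⟨hY, n₀, hn⟩
    have hn' : Y.IsGE n₀ := hn
    refine ⟨⟨fun i => ?_, n₀, isGE_mapDerived L Y n₀ hn'⟩, isIso_unit L adj Y n₀ hn' fun q => h3 _ (hY q)⟩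
    obtain ⟨e⟩ := nonempty_homology_mapDerived L Y i
    exact PB.prop_of_iso e.symm (h2a _ (hY i))
  · rintro X ⟨hX, n₀, hn⟩
    have hn' : X.IsGE n₀ := hn
    letI := adj.rightAdjointCommShift ℤ
    have := adj.commShift_of_leftAdjoint ℤ
    have := adj.isTriangulated_rightAdjoint
    -- objects of the heart
    have key : ∀ G, PB G → IsIso (adj.counit.app ((singleFunctor B 0).obj G)) ∧
        WSerre.cohIn PA (R.obj ((singleFunctor B 0).obj G)) := fun G hG => by
      obtain ⟨F, hF, ⟨eF⟩⟩ := h2c G hG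
      have := h3 F hF
      let e : L.mapDerivedCategory.obj ((singleFunctor A 0).obj F) ≅ (singleFunctor B 0).obj G :=
        (L.mapDerivedCategorySingleFunctor 0).app F ≪≫ (singleFunctor B 0).mapIso eF
      refine ⟨(NatTrans.isIso_app_iff_of_iso adj.counit e).1 ?_, cohIn_of_iso
        (asIso (adj.unit.app ((singleFunctor A 0).obj F)) ≪≫ R.mapIso e) fun i => ?_⟩
      · exact IsIso.of_isIso_fac_left
          (adj.left_triangle_components ((singleFunctor A 0).obj F))
      · by_cases hi : i = 0
        · subst hi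
          exact PA.prop_of_iso ((singleFunctorCompHomologyFunctorIso A 0).app F).symm hF
        · have hz : IsZero ((DerivedCategory.homologyFunctor A i).obj ((singleFunctor A 0).obj F)) := by
            rcases lt_or_gt_of_ne hi with h | h
            · exact isZero_of_isGE _ 0 i h
            · exact isZero_of_isLE _ 0 i h
          exact PA.prop_of_isZero hz
    refine ⟨⟨fun i => ?_, n₀, isGE_right L adj X n₀ hn'⟩,
      isIso_counit L adj X n₀ hn' fun q => (key _ (hX q)).1⟩
    let P : ObjectProperty (DerivedCategory B) := fun Z => WSerre.cohIn PA (R.obj Z)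
    have : P.IsClosedUnderIsomorphisms := ⟨fun e he => cohIn_of_iso (R.mapIso e) he⟩
    let m := max (i + 2) (n₀ + 1)
    let T := ((DerivedCategory.TStructure.t).triangleLTGE m).obj X
    have hT := (DerivedCategory.TStructure.t).triangleLTGE_distinguished m X
    have : T.obj₁.IsGE n₀ := isGE_truncLT X n₀ m
    have : T.obj₁.IsLE (n₀ + (m - 1 - n₀).toNat) := by
      have : T.obj₁.IsLE (m - 1) := (DerivedCategory.TStructure.t).isLE_truncLT_obj ..
      exact (DerivedCategory.TStructure.t).isLE_of_le _ (m - 1) _ (by omega)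
    have h₁ : WSerre.cohIn PA (R.obj T.obj₁) :=
      prop_of_bounded P (fun T' hT' h₁ h₃ => cohIn_obj₂ _ (R.map_distinguished T' hT') h₁ h₃)
        (m - 1 - n₀).toNat T.obj₁ n₀ fun r hr hr' => by
          let e : (DerivedCategory.homologyFunctor B r).obj T.obj₁ ≅
              (DerivedCategory.homologyFunctor B r).obj X :=
            @asIso _ _ _ _ _ (H9Misc.isIso_map_truncLTι m r (by omega) X)
          refine cohIn_of_iso (R.mapIso ((singleFunctor B r).mapIso e.symm)) ?_
          refine cohIn_of_iso (((R.commShiftIso (-r)).app _).symm ≪≫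
            R.mapIso (((singleFunctors B).shiftIso (-r) r 0 (by omega)).app _)) fun j => ?_
          exact PA.prop_of_iso (((DerivedCategory.homologyFunctor A 0).shiftIso (-r) j (j - r)
            (by omega)).app (R.obj _)).symm ((key _ (hX r)).2 (j - r))
    have h₃ : (R.obj T.obj₃).IsGE m :=
      isGE_right L adj _ m ((DerivedCategory.TStructure.t).isGE_truncGE_obj ..)
    have hm₁ : Mono ((DerivedCategory.homologyFunctor A i).map (R.mapTriangle.obj T).mor₁) :=
      (HomologySequence.mono_homologyMap_mor₁_iff _ (R.map_distinguished T hT) (i - 1) i).2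
        ((isZero_of_isGE (R.obj T.obj₃) m (i - 1) (by omega)).eq_of_src _ _)
    have he₁ : Epi ((DerivedCategory.homologyFunctor A i).map (R.mapTriangle.obj T).mor₁) :=
      (HomologySequence.epi_homologyMap_mor₁_iff _ (R.map_distinguished T hT) i).2
        ((isZero_of_isGE (R.obj T.obj₃) m i (by omega)).eq_of_tgt _ _)
    exact PA.prop_of_iso (@asIso _ _ _ _ _ (@isIso_of_mono_of_epi _ _ _ _ _ _ hm₁ he₁)) (h₁ i)

end Exact

end Groth.Agent.SiteBase.RpushD
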