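import Groth.Agent.SiteBase.RpushD.Gen
import Groth.Agent.TriCat.RightDerivedBridge
import Mathlib.Algebra.Homology.Factorizations.CM5a

/-!
# The derived functor on an object in degree zero
-/

set_option autoImplicit false

universe u

open CategoryTheory CategoryTheory.Limits DerivedCategory

attribute [local instance] HasDerivedCategory.standard

namespace Groth.Agent.SiteBase.RpushD

variable {A : Type (u + 1)} [Category.{u} A] [Abelian A] [IsGrothendieckAbelian.{u} A]
  {B : Type (u + 1)} [Category.{u} B] [Abelian B]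
  (G : A ⥤ B) [G.Additive]
  [(G.mapHomotopyCategory (ComplexShape.up ℤ) ⋙ DerivedCategory.Qh).HasRightDerivedFunctor
    (HomotopyCategory.quasiIso A (ComplexShape.up ℤ))]

theorem nonempty_RD_Q_iso (I : CochainComplex A ℤ) [I.IsKInjective] :
    Nonempty ((RD G).obj (DerivedCategory.Q.obj I) ≅
      DerivedCategory.Q.obj ((G.mapHomologicalComplex (ComplexShape.up ℤ)).obj I)) := by
  have := qh_isLeftAdjoint (A := A)
  let adjQ := Adjunction.ofIsLeftAdjoint (DerivedCategory.Qh (C := A))
  obtain ⟨e⟩ := nonempty_RD_iso G _ adjQ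
  have := TriCat.isIso_unit_of_isKInjective adjQ I
  exact ⟨(e.app _).symm ≪≫
    (G.mapHomotopyCategory (ComplexShape.up ℤ) ⋙ DerivedCategory.Qh).mapIso
      ((DerivedCategory.Qh (C := A)).rightAdjoint.mapIso ((quotientCompQhIso A).app I).symm ≪≫
        (asIso (adjQ.unit.app ((HomotopyCategory.quotient A _).obj I))).symm) ≪≫
    DerivedCategory.Qh.mapIso ((G.mapHomotopyCategoryFactors _).app I) ≪≫
      (quotientCompQhIso B).app _⟩

/-- A derived functor preserves objects bounded below. -/
theorem isGE_RD (X : DerivedCategory A) (n : ℤ) [X.IsGE n] : ((RD G).obj X).IsGE n := by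
  obtain ⟨K, hK, ⟨e⟩⟩ := exists_iso_Q_obj_of_isGE X n
  obtain ⟨I, f, hf, hI, hIn⟩ := CochainComplex.Plus.modelCategoryQuillen.exists_quasiIso_injective (K := K) n
  have : I.IsKInjective := CochainComplex.isKInjective_of_injective I n
  obtain ⟨i⟩ := nonempty_RD_Q_iso G I
  refine (isGE_iff _ _).2 fun q hq => ?_
  refine IsZero.of_iso ?_ ((DerivedCategory.homologyFunctor B q).mapIso
      ((RD G).mapIso (e ≪≫ asIso (DerivedCategory.Q.map f)) ≪≫ i) ≪≫
    (DerivedCategory.homologyFunctorFactors B q).app _)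
  show IsZero (HomologicalComplex.homology _ q)
  rw [← HomologicalComplex.exactAt_iff_isZero_homology]
  exact ShortComplex.exact_of_isZero_X₂ _ (G.map_isZero (I.isZero_of_isStrictlyGE n q hq))

theorem nonempty_RD_single_iso {M : A} (R : InjectiveResolution M) :
    Nonempty ((RD G).obj ((singleFunctor A 0).obj M) ≅
      DerivedCategory.Q.obj ((G.mapHomologicalComplex (ComplexShape.up ℤ)).obj R.cochainComplex)) := by
  have : R.cochainComplex.IsKInjective := CochainComplex.isKInjective_of_injective _ 0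
  obtain ⟨i⟩ := nonempty_RD_Q_iso G R.cochainComplex
  exact ⟨(RD G).mapIso ((DerivedCategory.singleFunctorIsoCompQ A 0).app M ≪≫
    asIso (DerivedCategory.Q.map R.ι')) ≪≫ i⟩

theorem nonempty_homology_RD_single [HasInjectiveResolutions A] (M : A) (p : ℕ) :
    Nonempty ((DerivedCategory.homologyFunctor B (p : ℤ)).obj ((RD G).obj ((singleFunctor A 0).obj M)) ≅
      (G.rightDerived p).obj M) := by
  let R := injectiveResolution M
  obtain ⟨i⟩ := nonempty_RD_single_iso G R
  exact ⟨(DerivedCategory.homologyFunctor B (p : ℤ)).mapIso i ≪≫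
    (DerivedCategory.homologyFunctorFactors B (p : ℤ)).app _ ≪≫ TriCat.homologyResIso G R p ≪≫
    (R.isoRightDerivedObj G p).symm⟩

/-- The derived functor commutes with shifts. -/
theorem nonempty_RD_shift (X : DerivedCategory A) (n : ℤ) :
    Nonempty ((RD G).obj (X⟦n⟧) ≅ ((RD G).obj X)⟦n⟧) := by
  have := qh_isLeftAdjoint (A := A)
  let adjQ := Adjunction.ofIsLeftAdjoint (DerivedCategory.Qh (C := A))
  let ρ := (DerivedCategory.Qh (C := A)).rightAdjoint
  obtain ⟨e⟩ := nonempty_RD_iso G ρ adjQ
  letI := adjQ.rightAdjointCommShift ℤ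
  exact ⟨(e.app _).symm ≪≫
    ((ρ ⋙ (G.mapHomotopyCategory (ComplexShape.up ℤ) ⋙ DerivedCategory.Qh)).commShiftIso n).app X ≪≫
    (shiftFunctor _ n).mapIso (e.app X)⟩

end Groth.Agent.SiteBase.RpushD
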