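import Groth.Agent.SiteBase.RpushD.Gen
import Groth.Agent.SiteBase.ModGroth
import Groth.Agent.H9Misc.RpushLeftAdj

/-!
# The derived direct image of modules on ringed sites
-/

set_option autoImplicit false

universe u

open CategoryTheory CategoryTheory.Limits

namespace Groth.Agent.SiteBase.RpushD

attribute [local instance] HasDerivedCategory.standard

variable {C : Type u} [SmallCategory C] {J : GrothendieckTopology C} {O_C : Sheaf J CommRingCat.{u}}
  {D : Type u} [SmallCategory D] {K : GrothendieckTopology D} {O_D : Sheaf K CommRingCat.{u}}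
  (f : ModSite.RMor O_C O_D) [SiteCmp.HasRpushD f]

theorem nonempty_pullD_adj [PreservesFiniteLimits f.pull] :
    Nonempty (SiteCmp.pullD f ⊣ SiteCmp.RpushD f) :=
  nonempty_adj (A := ModSite.Mod O_C) (B := ModSite.Mod O_D) f.push f.adj

theorem isRlimVia_rpushD (E : ℕ → DerivedCategory (ModSite.Mod O_C)) (t : ∀ n, E (n + 1) ⟶ E n)
    [HasProduct E] (L : DerivedCategory (ModSite.Mod O_C)) (a : ∀ n, L ⟶ E n)
    (hL : CohCx.IsRlimVia E t L a) [HasProduct fun n => (SiteCmp.RpushD f).obj (E n)] :
    CohCx.IsRlimVia (fun n => (SiteCmp.RpushD f).obj (E n)) (fun n => (SiteCmp.RpushD f).map (t n))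
      ((SiteCmp.RpushD f).obj L) (fun n => (SiteCmp.RpushD f).map (a n)) :=
  haveI : (RD (A := ModSite.Mod O_C) (B := ModSite.Mod O_D) f.push).IsRightAdjoint :=
    H9Misc.RpushLeftAdj.isRightAdjoint_RpushD f
  isRlimVia (A := ModSite.Mod O_C) (B := ModSite.Mod O_D) f.push E t L a hL

end Groth.Agent.SiteBase.RpushD
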