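import Groth.Agent.SiteBase.RpushD.LocAdj
import Groth.Agent.H9Misc.SerreDerived
import Groth.Agent.TriCat.KInjRes
import Groth.Agent.TriCat.DerivedOfAdjunction
import Groth.Prelude.Def_CohCx
import Mathlib.CategoryTheory.Triangulated.Adjunction

/-!
# Total right derived functors between Grothendieck abelian categories
-/

set_option autoImplicit false

universe u

open CategoryTheory CategoryTheory.Limits Pretriangulated

namespace Groth.Agent.SiteBase.RpushD

attribute [local instance] HasDerivedCategory.standard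

variable {A : Type (u + 1)} [Category.{u} A] [Abelian A] [IsGrothendieckAbelian.{u} A]
  {B : Type (u + 1)} [Category.{u} B] [Abelian B]
  (G : A ⥤ B) [G.Additive]
  [(G.mapHomotopyCategory (ComplexShape.up ℤ) ⋙ DerivedCategory.Qh).HasRightDerivedFunctor
    (HomotopyCategory.quasiIso A (ComplexShape.up ℤ))]

/-- The total right derived functor. -/
noncomputable abbrev RD : DerivedCategory A ⥤ DerivedCategory B :=
  (G.mapHomotopyCategory (ComplexShape.up ℤ) ⋙ DerivedCategory.Qh).totalRightDerived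
    DerivedCategory.Qh (HomotopyCategory.quasiIso A (ComplexShape.up ℤ))

omit [(G.mapHomotopyCategory (ComplexShape.up ℤ) ⋙ DerivedCategory.Qh).HasRightDerivedFunctor
    (HomotopyCategory.quasiIso A (ComplexShape.up ℤ))] in
lemma qh_isLeftAdjoint : (DerivedCategory.Qh (C := A)).IsLeftAdjoint :=
  TriCat.qh_isLeftAdjoint_of_exists_resolution (A := A) fun L => by
    obtain ⟨I, g, hI, hg, -, -⟩ := TriCat.exists_kInjective_resolution' L
    exact ⟨I, g, hI, hg⟩

theorem nonempty_RD_iso (RB : DerivedCategory A ⥤ HomotopyCategory A (ComplexShape.up ℤ))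
    (adjQ : DerivedCategory.Qh ⊣ RB) :
    Nonempty (RB ⋙ G.mapHomotopyCategory (ComplexShape.up ℤ) ⋙ DerivedCategory.Qh ≅ RD G) := by
  let W := HomotopyCategory.quasiIso A (ComplexShape.up ℤ)
  let Φ := G.mapHomotopyCategory (ComplexShape.up ℤ) ⋙ DerivedCategory.Qh
  have := TriCat.isRightDerivedFunctor_of_adjunction adjQ W Φ
  exact ⟨Functor.rightDerivedUnique _ _ (Functor.whiskerRight adjQ.unit Φ)
    (Φ.totalRightDerivedUnit DerivedCategory.Qh W) W⟩

/-- An exact left adjoint gives a left adjoint of the derived functor. -/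
theorem nonempty_adj {F : B ⥤ A} [F.Additive] [PreservesFiniteLimits F]
    [PreservesFiniteColimits F] (adj : F ⊣ G) : Nonempty (F.mapDerivedCategory ⊣ RD G) := by
  have := qh_isLeftAdjoint (A := A)
  let adjQ := Adjunction.ofIsLeftAdjoint (DerivedCategory.Qh (C := A))
  obtain ⟨e⟩ := nonempty_RD_iso G _ adjQ
  obtain ⟨a⟩ := nonempty_adj_of_localization DerivedCategory.Qh
    (HomotopyCategory.quasiIso B (ComplexShape.up ℤ))
    F.mapDerivedCategoryFactorsh
    ((H9Misc.SerreDerived.adjHtpy (ComplexShape.up ℤ) adj).comp adjQ)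
  exact ⟨a.ofNatIsoRight (Functor.associator _ _ _ ≪≫ e)⟩

/-- `Rf_*` is a triangulated functor up to isomorphism. -/
theorem exists_triangle (T : Triangle (DerivedCategory A))
    (hT : T ∈ distTriang (DerivedCategory A)) :
    ∃ c : (RD G).obj T.obj₃ ⟶ ((RD G).obj T.obj₁)⟦(1 : ℤ)⟧,
      Triangle.mk ((RD G).map T.mor₁) ((RD G).map T.mor₂) c ∈
        distTriang (DerivedCategory B) := by
  have := qh_isLeftAdjoint (A := A)
  let adjQ := Adjunction.ofIsLeftAdjoint (DerivedCategory.Qh (C := A))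
  let ρ := (DerivedCategory.Qh (C := A)).rightAdjoint
  obtain ⟨e⟩ := nonempty_RD_iso G ρ adjQ
  letI := adjQ.rightAdjointCommShift ℤ
  haveI := adjQ.commShift_of_leftAdjoint ℤ
  haveI : ρ.IsTriangulated := adjQ.isTriangulated_rightAdjoint
  have h := (ρ ⋙ (G.mapHomotopyCategory (ComplexShape.up ℤ) ⋙ DerivedCategory.Qh)).map_distinguished T hT
  refine ⟨e.inv.app T.obj₃ ≫ ((ρ ⋙ (G.mapHomotopyCategory (ComplexShape.up ℤ) ⋙ DerivedCategory.Qh)).mapTriangle.obj T).mor₃ ≫
    (e.hom.app T.obj₁)⟦(1 : ℤ)⟧', isomorphic_distinguished _ h _ ?_⟩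
  refine Triangle.isoMk _ _ (e.symm.app _) (e.symm.app _) (e.symm.app _) ?_ ?_ ?_
  · exact e.inv.naturality T.mor₁
  · exact e.inv.naturality T.mor₂
  · change (e.inv.app T.obj₃ ≫ ((ρ ⋙ (G.mapHomotopyCategory (ComplexShape.up ℤ) ⋙ DerivedCategory.Qh)).mapTriangle.obj T).mor₃ ≫
        (e.hom.app T.obj₁)⟦(1 : ℤ)⟧') ≫ (e.inv.app T.obj₁)⟦(1 : ℤ)⟧' = e.inv.app T.obj₃ ≫ _
    rw [Category.assoc]
    refine congrArg (e.inv.app T.obj₃ ≫ ·) ((Category.assoc _ _ _).trans ?_)
    erw [← Functor.map_comp, Iso.hom_inv_id_app, CategoryTheory.Functor.map_id, Category.comp_id]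

/-- `Rf_*` commutes with derived limits. -/
theorem isRlimVia [(RD G).IsRightAdjoint] (E : ℕ → DerivedCategory A) (t : ∀ n, E (n + 1) ⟶ E n)
    [HasProduct E] (L : DerivedCategory A) (a : ∀ n, L ⟶ E n)
    (hL : CohCx.IsRlimVia E t L a) [HasProduct fun n => (RD G).obj (E n)] :
    CohCx.IsRlimVia (fun n => (RD G).obj (E n)) (fun n => (RD G).map (t n))
      ((RD G).obj L) (fun n => (RD G).map (a n)) := by
  obtain ⟨c, h⟩ := hL
  let R := RD G
  have : PreservesLimitsOfSize.{0, 0} R := (Adjunction.ofIsRightAdjoint R).rightAdjoint_preservesLimits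
  obtain ⟨c', h'⟩ := exists_triangle G _ h
  let φ := PreservesProduct.iso R E
  have hadd : R.Additive := by
    have : HasBinaryProducts (DerivedCategory A) := inferInstance
    have : HasBinaryBiproducts (DerivedCategory A) :=
      HasBinaryBiproducts.of_hasBinaryProducts
    have := preservesBinaryBiproducts_of_preservesBinaryProducts R
    exact Functor.additive_of_preservesBinaryBiproducts _
  have hφ : ∀ n, φ.hom ≫ Pi.π (fun n => R.obj (E n)) n = R.map (Pi.π E n) :=
    fun n => piComparison_comp_π R E n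
  refine ⟨φ.inv ≫ c', isomorphic_distinguished _ h' _ ?_⟩
  refine Triangle.isoMk _ _ (Iso.refl _) φ.symm φ.symm ?_ ?_ ?_
  · refine Eq.trans ?_ (Category.id_comp _).symm
    refine (Iso.comp_inv_eq φ).2 (Pi.hom_ext _ _ fun n => ?_)
    exact (Pi.lift_π _ n).trans (((congrArg R.map (Pi.lift_π a n).symm).trans (R.map_comp _ _)).trans
      ((congrArg (_ ≫ ·) (hφ n).symm).trans (Category.assoc _ _ _).symm))
  · change _ ≫ φ.inv = φ.inv ≫ R.map (Pi.lift fun n => Pi.π E n - Pi.π E (n + 1) ≫ t n)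
    rw [Iso.eq_inv_comp, ← Category.assoc, Iso.comp_inv_eq]
    refine Pi.hom_ext _ _ fun n => ?_
    refine (Category.assoc _ _ _).trans ((congrArg (φ.hom ≫ ·) (Pi.lift_π _ n)).trans ?_)
    refine Eq.trans ?_ (Category.assoc _ _ _).symm
    refine Eq.trans ?_ (congrArg (R.map _ ≫ ·) (hφ n)).symm
    rw [Preadditive.comp_sub, reassoc_of% (hφ (n + 1)), hφ, ← R.map_comp, ← R.map_comp, ← R.map_sub]
    exact congrArg R.map (Pi.lift_π (fun n => Pi.π E n - Pi.π E (n + 1) ≫ t n) n).symm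
  · change (φ.inv ≫ c') ≫ (𝟙 (R.obj L))⟦(1 : ℤ)⟧' = φ.inv ≫ c'
    exact (congrArg ((φ.inv ≫ c') ≫ ·) ((shiftFunctor _ (1 : ℤ)).map_id _)).trans (Category.comp_id _)

end Groth.Agent.SiteBase.RpushD
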