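import Groth.Agent.SiteBase.RpushD.Devissage

/-!
# Dévissage of full faithfulness
-/

set_option autoImplicit false

universe w w' v v' u u' t₁ t₂

open CategoryTheory CategoryTheory.Limits Pretriangulated DerivedCategory

namespace Groth.Agent.SiteBase.RpushD

section Tri

variable {D : Type t₁} [Category.{v} D] [Preadditive D] [HasZeroObject D] [HasShift D ℤ]
  [∀ n : ℤ, (shiftFunctor D n).Additive] [Pretriangulated D]
  {E : Type t₂} [Category.{v'} E] [Preadditive E] [HasZeroObject E] [HasShift E ℤ]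
  [∀ n : ℤ, (shiftFunctor E n).Additive] [Pretriangulated E]
  (F : D ⥤ E) [F.CommShift ℤ] [F.IsTriangulated]

/-- `F` is bijective on morphisms from `K` to `L`. -/
def Bij (K L : D) : Prop := Function.Bijective (fun φ : K ⟶ L => F.map φ)

variable {F}

omit [Preadditive D] [HasZeroObject D] [∀ n : ℤ, (shiftFunctor D n).Additive] [Pretriangulated D]
  [Preadditive E] [HasZeroObject E] [∀ n : ℤ, (shiftFunctor E n).Additive] [Pretriangulated E]
  [F.IsTriangulated] [HasShift D ℤ] [HasShift E ℤ] [F.CommShift ℤ] in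
lemma Bij.of_iso {K L K' L' : D} (h : Bij F K L) (a : K ≅ K') (b : L ≅ L') : Bij F K' L' := by
  refine ⟨fun φ ψ e => ?_, fun χ => ?_⟩
  · refine (cancel_epi a.hom).1 ((cancel_mono b.inv).1 (h.1 ?_))
    simp only [Functor.map_comp]
    exact congrArg (fun t => (F.map a.hom ≫ t) ≫ F.map b.inv) e
  · obtain ⟨φ, hφ⟩ := h.2 (F.map a.hom ≫ χ ≫ F.map b.inv)
    refine ⟨a.inv ≫ φ ≫ b.hom, ?_⟩
    show F.map (a.inv ≫ φ ≫ b.hom) = χ
    simp only [Functor.map_comp, show F.map φ = _ from hφ]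
    simp [← Functor.map_comp, ← Functor.map_comp_assoc]

omit [Preadditive D] [HasZeroObject D] [∀ n : ℤ, (shiftFunctor D n).Additive] [Pretriangulated D]
  [Preadditive E] [HasZeroObject E] [∀ n : ℤ, (shiftFunctor E n).Additive] [Pretriangulated E]
  [F.IsTriangulated] in
lemma Bij.shift {K L : D} (h : Bij F K L) (a : ℤ) : Bij F (K⟦a⟧) (L⟦a⟧) := by
  have hn : ∀ φ : K ⟶ L, F.map (φ⟦a⟧') =
      (F.commShiftIso a).hom.app K ≫ (F.map φ)⟦a⟧' ≫ (F.commShiftIso a).inv.app L := fun φ =>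
    (NatIso.naturality_2 (F.commShiftIso a) φ).symm
  refine ⟨fun φ ψ e => ?_, fun χ => ?_⟩
  · obtain ⟨φ, rfl⟩ := (shiftFunctor D a).map_surjective φ
    obtain ⟨ψ, rfl⟩ := (shiftFunctor D a).map_surjective ψ
    have e' : F.map (φ⟦a⟧') = F.map (ψ⟦a⟧') := e
    rw [hn, hn, cancel_epi, cancel_mono] at e'
    exact congrArg _ (h.1 ((shiftFunctor E a).map_injective e'))
  · obtain ⟨g, hg⟩ := (shiftFunctor E a).map_surjective
      ((F.commShiftIso a).inv.app K ≫ χ ≫ (F.commShiftIso a).hom.app L)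
    obtain ⟨φ, rfl⟩ := h.2 g
    refine ⟨φ⟦a⟧', ?_⟩
    show F.map (φ⟦a⟧') = χ
    rw [hn]
    simp [show (shiftFunctor E a).map (F.map φ) = _ from hg]

/-- Five lemma in the target. -/
lemma bij_target {K : D} (T : Triangle D) (hT : T ∈ distTriang D) (h₁ : Bij F K T.obj₁)
    (h₁' : Bij F K (T.obj₁⟦(1 : ℤ)⟧)) (h₃ : Bij F K T.obj₃)
    (h₃' : Bij F K (T.obj₃⟦(-1 : ℤ)⟧)) : Bij F K T.obj₂ := by
  constructor
  · intro φ ψ e
    have e0 : F.map (φ - ψ) = 0 := by rw [F.map_sub]; exact sub_eq_zero.2 e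
    refine sub_eq_zero.1 ?_
    generalize φ - ψ = χ at e0
    have h0 : χ ≫ T.mor₂ = 0 := h₃.1 (by simp only [F.map_comp, e0, zero_comp, F.map_zero])
    obtain ⟨y, rfl⟩ := Triangle.coyoneda_exact₂ _ hT χ h0
    rw [F.map_comp] at e0
    obtain ⟨z, hz⟩ := Triangle.coyoneda_exact₂ _
      (F.map_distinguished _ (inv_rot_of_distTriang _ hT)) (F.map y) e0
    obtain ⟨z', rfl⟩ := h₃'.2 z
    have hy : y = z' ≫ T.invRotate.mor₁ := h₁.1 (hz.trans (F.map_comp _ _).symm)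
    subst hy
    exact (Category.assoc _ _ _).trans ((congrArg (z' ≫ ·) (comp_distTriang_mor_zero₁₂ _ (inv_rot_of_distTriang _ hT))).trans
      comp_zero)
  · intro χ
    obtain ⟨a, ha⟩ := h₃.2 (χ ≫ F.map T.mor₂)
    have h0 : a ≫ T.mor₃ = 0 := h₁'.1 (by
      show F.map (a ≫ T.mor₃) = F.map 0
      rw [F.map_comp, show F.map a = _ from ha, Category.assoc, ← F.map_comp,
        comp_distTriang_mor_zero₂₃ _ hT, F.map_zero, comp_zero, F.map_zero])
    obtain ⟨b, rfl⟩ := Triangle.coyoneda_exact₃ _ hT a h0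
    obtain ⟨c, hc⟩ := Triangle.coyoneda_exact₂ _ (F.map_distinguished _ hT) (χ - F.map b) (by
      show (χ - F.map b) ≫ F.map T.mor₂ = 0
      rw [Preadditive.sub_comp, ← F.map_comp, show F.map (b ≫ T.mor₂) = _ from ha, sub_self])
    obtain ⟨c', rfl⟩ := h₁.2 c
    refine ⟨b + c' ≫ T.mor₁, ?_⟩
    show F.map (b + c' ≫ T.mor₁) = χ
    rw [F.map_add, F.map_comp]
    exact (congrArg (F.map b + ·) hc.symm).trans (add_sub_cancel _ _)

/-- Five lemma in the source. -/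
lemma bij_source {L : D} (T : Triangle D) (hT : T ∈ distTriang D) (h₁ : Bij F T.obj₁ L)
    (h₁' : Bij F (T.obj₁⟦(1 : ℤ)⟧) L) (h₃ : Bij F T.obj₃ L)
    (h₃' : Bij F (T.obj₃⟦(-1 : ℤ)⟧) L) : Bij F T.obj₂ L := by
  constructor
  · intro φ ψ e
    have e0 : F.map (φ - ψ) = 0 := by rw [F.map_sub]; exact sub_eq_zero.2 e
    refine sub_eq_zero.1 ?_
    generalize φ - ψ = χ at e0
    have h0 : T.mor₁ ≫ χ = 0 := h₁.1 (by simp only [F.map_comp, e0, comp_zero, F.map_zero])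
    obtain ⟨y, rfl⟩ := Triangle.yoneda_exact₂ _ hT χ h0
    rw [F.map_comp] at e0
    obtain ⟨z, hz⟩ := Triangle.yoneda_exact₂ _
      (F.map_distinguished _ (rot_of_distTriang _ hT)) (F.map y) e0
    obtain ⟨z', rfl⟩ := h₁'.2 z
    have hy : y = T.mor₃ ≫ z' := h₃.1 (hz.trans (F.map_comp _ _).symm)
    rw [hy, ← Category.assoc, comp_distTriang_mor_zero₂₃ _ hT, zero_comp]
  · intro χ
    obtain ⟨a, ha⟩ := h₁.2 (F.map T.mor₁ ≫ χ)
    have h0 : T.invRotate.mor₁ ≫ a = 0 := h₃'.1 (by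
      show F.map (T.invRotate.mor₁ ≫ a) = F.map 0
      refine ((F.map_comp _ _).trans ((congrArg (F.map T.invRotate.mor₁ ≫ ·) ha).trans
        ((Category.assoc _ _ _).symm.trans ?_))).trans (F.map_zero _ _).symm
      exact (congrArg (· ≫ χ) ((F.map_comp _ _).symm.trans ((congrArg F.map
        (comp_distTriang_mor_zero₁₂ _ (inv_rot_of_distTriang _ hT))).trans
          (F.map_zero _ _)))).trans zero_comp)
    obtain ⟨b, rfl⟩ : ∃ b : T.obj₂ ⟶ L, a = T.mor₁ ≫ b :=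
      Triangle.yoneda_exact₂ _ (inv_rot_of_distTriang _ hT) a h0
    obtain ⟨c, hc⟩ := Triangle.yoneda_exact₂ _ (F.map_distinguished _ hT) (χ - F.map b) (by
      show F.map T.mor₁ ≫ (χ - F.map b) = 0
      rw [Preadditive.comp_sub, ← F.map_comp, show F.map (T.mor₁ ≫ b) = _ from ha, sub_self])
    obtain ⟨c', rfl⟩ := h₃.2 c
    refine ⟨b + T.mor₂ ≫ c', ?_⟩
    show F.map (b + T.mor₂ ≫ c') = χ
    rw [F.map_add, F.map_comp]
    exact (congrArg (F.map b + ·) hc.symm).trans (add_sub_cancel _ _)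

end Tri

section Derived

variable {A : Type u} [Category.{v} A] [Abelian A] [HasDerivedCategory.{w} A]
  {B : Type u'} [Category.{v'} B] [Abelian B] [HasDerivedCategory.{w'} B]
  (L : A ⥤ B) [L.Additive] [PreservesFiniteLimits L] [PreservesFiniteColimits L]
  {PA : ObjectProperty A} [WSerre.IsWeakSerre PA] {PB : ObjectProperty B} [WSerre.IsWeakSerre PB]

lemma cohIn_shift {K : DerivedCategory A} (h : WSerre.cohIn PA K) (a : ℤ) :
    WSerre.cohIn PA (K⟦a⟧) := fun i =>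
  PA.prop_of_iso (((DerivedCategory.homologyFunctor A 0).shiftIso a i (a + i) rfl).app K).symm
    (h (a + i))

omit [WSerre.IsWeakSerre PA] in
/-- A property closed under extensions holds on `cohInBdd` if it holds on the objects concentrated
in one degree. -/
lemma prop_of_cohInBdd (P : ObjectProperty (DerivedCategory A)) [P.IsClosedUnderIsomorphisms]
    (hP : ∀ T ∈ distTriang (DerivedCategory A), P T.obj₁ → P T.obj₃ → P T.obj₂)
    (h : ∀ (M : A), PA M → ∀ a : ℤ, P (((singleFunctor A 0).obj M)⟦a⟧))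
    {K : DerivedCategory A} (hK : WSerre.cohInBdd PA K) : P K := by
  obtain ⟨hc, ⟨a, ha⟩, ⟨b, hb⟩⟩ := hK
  have : K.IsGE a := ha
  have : K.IsLE (a + (b - a).toNat) :=
    (DerivedCategory.TStructure.t).isLE_of_le K b _ (by omega)
  refine prop_of_bounded P hP (b - a).toNat K a fun q _ _ => ?_
  exact P.prop_of_iso (((singleFunctors A).shiftIso (-q) q 0 (by omega)).app _) (h _ (hc q) (-q))

theorem equivalence_bdd (h1 : ∀ F, PA F → PB (L.obj F))
    (h1e : ∀ G, PB G → ∃ F, PA F ∧ Nonempty (L.obj F ≅ G))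
    (h2 : ∀ (F F' : A), PA F → PA F' → ∀ n : ℤ, Function.Bijective
      (fun φ : ((singleFunctor A 0).obj F ⟶ ((singleFunctor A 0).obj F')⟦n⟧) =>
        L.mapDerivedCategory.map φ)) :
    (∀ K, WSerre.cohInBdd PA K → WSerre.cohInBdd PB (L.mapDerivedCategory.obj K)) ∧
    (∀ K K', WSerre.cohInBdd PA K → WSerre.cohInBdd PA K' →
      Function.Bijective (fun φ : (K ⟶ K') => L.mapDerivedCategory.map φ)) ∧
    (∀ M, WSerre.cohInBdd PB M →
      ∃ K, WSerre.cohInBdd PA K ∧ Nonempty (L.mapDerivedCategory.obj K ≅ M)) := by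
  let Φ := L.mapDerivedCategory
  -- the source is a single object
  have s1 : ∀ (F : A), PA F → ∀ K', WSerre.cohInBdd PA K' → ∀ n : ℤ,
      Bij Φ ((singleFunctor A 0).obj F) (K'⟦n⟧) := by
    intro F hF K' hK'
    let P : ObjectProperty (DerivedCategory A) := fun Z => ∀ n : ℤ, Bij Φ ((singleFunctor A 0).obj F) (Z⟦n⟧)
    have : P.IsClosedUnderIsomorphisms :=
      ⟨fun e he n => (he n).of_iso (Iso.refl _) ((shiftFunctor _ n).mapIso e)⟩
    refine prop_of_cohInBdd (PA := PA) P (fun T hT h₁ h₃ n => ?_) (fun M hM a n => ?_) hK'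
    · exact bij_target _ (Triangle.shift_distinguished T hT n) (h₁ n)
        ((h₁ (n + 1)).of_iso (Iso.refl _) ((shiftFunctorAdd' _ n (1 : ℤ) (n + 1) rfl).app T.obj₁))
        (h₃ n)
        ((h₃ (n - 1)).of_iso (Iso.refl _)
          ((shiftFunctorAdd' _ n (-1 : ℤ) (n - 1) (by omega)).app T.obj₃))
    · exact (show Bij Φ _ _ from h2 F M hF hM (a + n)).of_iso (Iso.refl _)
        ((shiftFunctorAdd' _ a n (a + n) rfl).app _)
  -- the source is any object
  have s2 : ∀ K, WSerre.cohInBdd PA K → ∀ K', WSerre.cohInBdd PA K' → ∀ a n : ℤ,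
      Bij Φ (K⟦a⟧) (K'⟦n⟧) := by
    intro K hK
    let P : ObjectProperty (DerivedCategory A) := fun Z => ∀ K', WSerre.cohInBdd PA K' → ∀ a n : ℤ,
      Bij Φ (Z⟦a⟧) (K'⟦n⟧)
    have : P.IsClosedUnderIsomorphisms :=
      ⟨fun e he K' hK' a n => (he K' hK' a n).of_iso ((shiftFunctor _ a).mapIso e) (Iso.refl _)⟩
    refine prop_of_cohInBdd (PA := PA) P (fun T hT h₁ h₃ K' hK' a n => ?_)
      (fun M hM b K' hK' a n => ?_) hK
    · exact bij_source _ (Triangle.shift_distinguished T hT a) (h₁ K' hK' a n)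
        ((h₁ K' hK' (a + 1) n).of_iso ((shiftFunctorAdd' _ a (1 : ℤ) (a + 1) rfl).app T.obj₁)
          (Iso.refl _))
        (h₃ K' hK' a n)
        ((h₃ K' hK' (a - 1) n).of_iso
          ((shiftFunctorAdd' _ a (-1 : ℤ) (a - 1) (by omega)).app T.obj₃) (Iso.refl _))
    · exact ((s1 M hM K' hK' (n - (b + a))).shift (b + a)).of_iso
        ((shiftFunctorAdd' _ b a (b + a) rfl).app _)
        ((shiftFunctorAdd' _ (n - (b + a)) (b + a) n (by omega)).app _).symm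
  have ff : ∀ K K', WSerre.cohInBdd PA K → WSerre.cohInBdd PA K' → Bij Φ K K' := fun K K' hK hK' =>
    (s2 K hK K' hK' 0 0).of_iso ((shiftFunctorZero _ ℤ).app _) ((shiftFunctorZero _ ℤ).app _)
  have himg : ∀ K, WSerre.cohInBdd PA K → WSerre.cohInBdd PB (Φ.obj K) := by
    rintro K ⟨hc, ⟨a, ha⟩, ⟨b, hb⟩⟩
    refine ⟨fun i => ?_, ⟨a, isGE_mapDerived L K a ha⟩, ⟨b, isLE_mapDerived L K b hb⟩⟩
    obtain ⟨e⟩ := nonempty_homology_mapDerived L K i
    exact PB.prop_of_iso e.symm (h1 _ (hc i))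
  refine ⟨himg, ff, fun M hM => ?_⟩
  let P : ObjectProperty (DerivedCategory B) := fun Z => ∀ n : ℤ, ∃ K, WSerre.cohInBdd PA K ∧
    Nonempty (Φ.obj K ≅ Z⟦n⟧)
  have : P.IsClosedUnderIsomorphisms := ⟨fun e he n => by
    obtain ⟨K, hK, ⟨i⟩⟩ := he n
    exact ⟨K, hK, ⟨i ≪≫ (shiftFunctor _ n).mapIso e⟩⟩⟩
  suffices hM' : P M by
    obtain ⟨K, hK, ⟨i⟩⟩ := hM' 0
    exact ⟨K, hK, ⟨i ≪≫ (shiftFunctorZero _ ℤ).app M⟩⟩
  refine prop_of_cohInBdd (PA := PB) P (fun T hT h₁ h₃ n => ?_) (fun G hG a n => ?_) hM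
  · have hT' := Triangle.shift_distinguished T hT n
    let T' := (Triangle.shiftFunctor (DerivedCategory B) n).obj T
    obtain ⟨K₁, hK₁, ⟨e₁⟩⟩ := h₁ n
    obtain ⟨K₃, hK₃, ⟨e₃⟩⟩ := h₃ n
    have hK₁' : WSerre.cohInBdd PA (K₁⟦(1 : ℤ)⟧) :=
      ⟨cohIn_shift hK₁.1 1, (DerivedCategory.TStructure.t).bounded.le_shift 1 _ hK₁.2⟩
    obtain ⟨d, hd⟩ := (ff K₃ _ hK₃ hK₁').2
      (e₃.hom ≫ T'.mor₃ ≫ e₁.inv⟦(1 : ℤ)⟧' ≫ (Φ.commShiftIso (1 : ℤ)).inv.app K₁)
    obtain ⟨K₂, f, g, hK₂⟩ := distinguished_cocone_triangle₂ d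
    refine ⟨K₂, ⟨cohIn_obj₂ _ hK₂ hK₁.1 hK₃.1,
      (DerivedCategory.TStructure.t).bounded.ext_of_isTriangulatedClosed₂ _ hK₂ hK₁.2 hK₃.2⟩, ?_⟩
    let S := Φ.mapTriangle.obj (Triangle.mk f g d)
    obtain ⟨e, -, -⟩ := exists_iso_of_arrow_iso S.rotate.rotate T'.rotate.rotate
      (rot_of_distTriang _ (rot_of_distTriang _ (Φ.map_distinguished _ hK₂)))
      (rot_of_distTriang _ (rot_of_distTriang _ hT'))
      (Arrow.isoMk e₃ ((shiftFunctor _ (1 : ℤ)).mapIso e₁) (by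
        show e₃.hom ≫ T'.mor₃ = (Φ.map d ≫ (Φ.commShiftIso (1 : ℤ)).hom.app K₁) ≫ e₁.hom⟦(1 : ℤ)⟧'
        rw [show Φ.map d = _ from hd]
        simp only [Category.assoc, Iso.inv_hom_id_app_assoc, ← Functor.map_comp]
        exact congrArg (e₃.hom ≫ ·) (((congrArg (T'.mor₃ ≫ ·) ((congrArg _ e₁.inv_hom_id).trans
          (CategoryTheory.Functor.map_id _ _))).trans (Category.comp_id _)).symm)))
    exact ⟨(shiftFunctor (DerivedCategory B) (1 : ℤ)).preimageIso (Triangle.π₃.mapIso e)⟩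
  · obtain ⟨F, hF, ⟨eF⟩⟩ := h1e G hG
    refine ⟨((singleFunctor A 0).obj F)⟦a + n⟧, ⟨cohIn_shift (fun i => ?_) _, ?_⟩, ⟨?_⟩⟩
    · by_cases hi : i = 0
      · subst hi
        exact PA.prop_of_iso ((singleFunctorCompHomologyFunctorIso A 0).app F).symm hF
      · rcases lt_or_gt_of_ne hi with h | h
        · exact PA.prop_of_isZero (isZero_of_isGE _ 0 i h)
        · exact PA.prop_of_isZero (isZero_of_isLE _ 0 i h)
    · exact (DerivedCategory.TStructure.t).bounded.le_shift _ _ ⟨⟨0, inferInstance⟩, ⟨0, inferInstance⟩⟩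
    · exact (Φ.commShiftIso (a + n)).app _ ≪≫ (shiftFunctor _ (a + n)).mapIso
        ((L.mapDerivedCategorySingleFunctor 0).app F ≪≫ (singleFunctor B 0).mapIso eF) ≪≫
        (shiftFunctorAdd' _ a n (a + n) rfl).app _

end Derived

end Groth.Agent.SiteBase.RpushD
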