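import Groth.Agent.SiteBase.RpushD.Gen
import Groth.Agent.H9Misc.LeftAdjExists

/-!
# Morphisms into a derived right adjoint
-/

set_option autoImplicit false

universe u

open CategoryTheory CategoryTheory.Limits DerivedCategory

attribute [local instance] HasDerivedCategory.standard

namespace Groth.Agent.SiteBase.RpushD

lemma bijective_shift_iff {T : Type*} [Category T] [HasShift T ℤ] {S S' X X' : T} (m : ℤ)
    (i : S'⟦m⟧ ≅ S) (g : X ⟶ X') :
    Function.Bijective (fun x : S ⟶ X⟦m⟧ => x ≫ g⟦m⟧') ↔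
      Function.Bijective (fun y : S' ⟶ X => y ≫ g) := by
  have hb : ∀ Z : T, Function.Bijective (fun y : S' ⟶ Z => i.inv ≫ y⟦m⟧') := fun Z =>
    ⟨fun y y' h => (shiftFunctor T m).map_injective ((cancel_epi i.inv).1 h), fun x => by
      obtain ⟨y, hy⟩ := (shiftFunctor T m).map_surjective (i.hom ≫ x)
      exact ⟨y, (congrArg (i.inv ≫ ·) hy).trans (i.inv_hom_id_assoc x)⟩⟩
  rw [← Function.Bijective.of_comp_iff _ (hb X), ← Function.Bijective.of_comp_iff' (hb X') (fun y => y ≫ g)]
  refine iff_of_eq (congrArg Function.Bijective (funext fun y => ?_))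
  simp

variable {A : Type (u + 1)} [Category.{u} A] [Abelian A] [IsGrothendieckAbelian.{u} A]
  {B : Type (u + 1)} [Category.{u} B] [Abelian B] [IsGrothendieckAbelian.{u} B]
  {F : A ⥤ B} {G : B ⥤ A} (adj : F ⊣ G) [F.Additive] [G.Additive]
  (hgood : ∀ M : A, ∃ (P : A) (π : P ⟶ M), H9Misc.LeftAdjExists.Good G P ∧ Epi π)
  [(G.mapHomotopyCategory (ComplexShape.up ℤ) ⋙ DerivedCategory.Qh).HasRightDerivedFunctor
    (HomotopyCategory.quasiIso B (ComplexShape.up ℤ))]

include adj hgood in
/-- Bijectivity on classes transfers along a derived right adjoint. -/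
theorem bijective_transfer (M : A) (hM : H9Misc.LeftAdjExists.Good G M) {X X' : DerivedCategory B}
    (g : X ⟶ X') (m : ℤ)
    (h : Function.Bijective (fun x : (singleFunctor B 0).obj (F.obj M) ⟶ X⟦m⟧ => x ≫ g⟦m⟧')) :
    Function.Bijective (fun x : (singleFunctor A 0).obj M ⟶ ((RD G).obj X)⟦m⟧ =>
      x ≫ ((RD G).map g)⟦m⟧') := by
  have := qh_isLeftAdjoint (A := B)
  let adjQ := Adjunction.ofIsLeftAdjoint (DerivedCategory.Qh (C := B))
  let RB := (DerivedCategory.Qh (C := B)).rightAdjoint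
  obtain ⟨e⟩ := nonempty_RD_iso G RB adjQ
  let a' := (H9Misc.SerreDerived.adjHtpy (ComplexShape.up ℤ) adj).comp adjQ
  let P : CochainComplex A ℤ := (CochainComplex.singleFunctor A m).obj M
  have hP : P.IsStrictlyLE m :=
    inferInstanceAs (CochainComplex.IsStrictlyLE ((HomologicalComplex.single A _ m).obj M) m)
  have hPg : ∀ n, H9Misc.LeftAdjExists.Good G (P.X n) := fun n => by
    by_cases hn : n = m
    · subst hn
      intro E hE k
      have := hM E hE k
      let i : P.X n ≅ M := HomologicalComplex.singleObjXSelf (ComplexShape.up ℤ) n M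
      exact ⟨fun x y => by
        rw [← Abelian.Ext.mk₀_id_comp x, ← Abelian.Ext.mk₀_id_comp y, ← i.hom_inv_id,
          ← Abelian.Ext.mk₀_comp_mk₀_assoc, ← Abelian.Ext.mk₀_comp_mk₀_assoc,
          Subsingleton.elim ((Abelian.Ext.mk₀ i.inv).comp x (zero_add _))]⟩
    · exact H9Misc.LeftAdjExists.good_of_isZero (HomologicalComplex.isZero_single_obj_X _ m M n hn)
  let qP := (HomotopyCategory.quotient A (ComplexShape.up ℤ)).obj P
  let iA : ((DerivedCategory.Qh).obj qP)⟦m⟧ ≅ (singleFunctor A 0).obj M :=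
    (shiftFunctor _ m).mapIso ((quotientCompQhIso A).app P ≪≫
      ((DerivedCategory.singleFunctorIsoCompQ A m).app M).symm) ≪≫
      ((singleFunctors A).shiftIso m 0 m (add_zero m)).app M
  let FqP := (F.mapHomotopyCategory (ComplexShape.up ℤ)).obj qP
  let iB : ((DerivedCategory.Qh).obj FqP)⟦m⟧ ≅ (singleFunctor B 0).obj (F.obj M) :=
    (shiftFunctor _ m).mapIso (DerivedCategory.Qh.mapIso ((F.mapHomotopyCategoryFactors _).app P) ≪≫
      (quotientCompQhIso B).app _ ≪≫
      DerivedCategory.Q.mapIso ((HomologicalComplex.singleMapHomologicalComplex F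
        (ComplexShape.up ℤ) m).app M) ≪≫
      ((DerivedCategory.singleFunctorIsoCompQ B m).app (F.obj M)).symm) ≪≫
      ((singleFunctors B).shiftIso m 0 m (add_zero m)).app (F.obj M)
  rw [bijective_shift_iff m iB] at h
  rw [bijective_shift_iff m iA]
  let β : ∀ Z, ((DerivedCategory.Qh).obj FqP ⟶ Z) → ((DerivedCategory.Qh).obj qP ⟶ (RD G).obj Z) :=
    fun Z φ => DerivedCategory.Qh.map (a'.homEquiv qP Z φ) ≫ e.hom.app Z
  have hβ : ∀ Z, Function.Bijective (β Z) := fun Z =>
    ((Iso.homToEquiv (e.app Z)).bijective.comp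
      (H9Misc.LeftAdjExists.Qh_map_bijective adj hgood adjQ P m hPg Z)).comp
      (a'.homEquiv qP Z).bijective
  rw [← Function.Bijective.of_comp_iff _ (hβ X)]
  refine (congrArg Function.Bijective (funext fun φ => ?_)).mp ((hβ X').comp h)
  show DerivedCategory.Qh.map (a'.homEquiv qP X' (φ ≫ g)) ≫ e.hom.app X' =
    (DerivedCategory.Qh.map (a'.homEquiv qP X φ) ≫ e.hom.app X) ≫ (RD G).map g
  rw [a'.homEquiv_naturality_right, Functor.map_comp, Category.assoc, Category.assoc]
  exact congrArg (_ ≫ ·) (e.hom.naturality g)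

end Groth.Agent.SiteBase.RpushD
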