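import Mathlib.CategoryTheory.Localization.Predicate
import Mathlib.CategoryTheory.Adjunction.Basic

/-!
# Adjunctions descend to localizations
-/

set_option autoImplicit false

universe w₁ w₂ w₃ t₁ t₂ t₃

open CategoryTheory

namespace Groth.Agent.SiteBase.RpushD

section General

variable {C : Type t₁} [Category.{w₁} C] {D : Type t₂} [Category.{w₂} D] {E : Type t₃}
  [Category.{w₃} E] (L : C ⥤ D) (W : MorphismProperty C) [L.IsLocalization W]
  {Φ : C ⥤ E} {Φ' : D ⥤ E} (e : L ⋙ Φ' ≅ Φ) {Ψ : E ⥤ C} (a : Φ ⊣ Ψ)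

include L W e a in
/-- An adjunction descends to a localization. -/
theorem nonempty_adj_of_localization : Nonempty (Φ' ⊣ Ψ ⋙ L) := by
  letI : Localization.Lifting L W L (𝟭 D) := ⟨L.rightUnitor⟩
  letI : Localization.Lifting L W (Φ ⋙ Ψ ⋙ L) (Φ' ⋙ Ψ ⋙ L) :=
    ⟨(Functor.associator _ _ _).symm ≪≫ Functor.isoWhiskerRight e _⟩
  let η : 𝟭 D ⟶ Φ' ⋙ Ψ ⋙ L := Localization.liftNatTrans L W L (Φ ⋙ Ψ ⋙ L) _ _
    (L.leftUnitor.inv ≫ Functor.whiskerRight a.unit L ≫ (Functor.associator _ _ _).hom)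
  let ε : (Ψ ⋙ L) ⋙ Φ' ⟶ 𝟭 E :=
    (Functor.associator _ _ _).hom ≫ Functor.whiskerLeft Ψ e.hom ≫ a.counit
  have hη : ∀ X, η.app (L.obj X) = L.map (a.unit.app X) ≫ L.map (Ψ.map (e.inv.app X)) := fun X => by
    simp only [η, Localization.liftNatTrans_app]
    show (L.rightUnitor.hom.app X) ≫ _ ≫
      ((L.associator Φ' (Ψ ⋙ L)).symm ≪≫ Functor.isoWhiskerRight e (Ψ ⋙ L)).inv.app X = _
    simp
  have hleft : ∀ Y, Φ'.map (η.app Y) ≫ ε.app (Φ'.obj Y) = 𝟙 (Φ'.obj Y) := by
    let τ : Φ' ⟶ Φ' :=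
      { app := fun Y => Φ'.map (η.app Y) ≫ ε.app (Φ'.obj Y)
        naturality := fun Y Y' g => by
          have h1 := η.naturality g
          have h2 := ε.naturality (Φ'.map g)
          dsimp at h1 h2
          rw [← Category.assoc, ← Φ'.map_comp, h1, Φ'.map_comp, Category.assoc, h2, Category.assoc] }
    have hτ : τ = 𝟙 _ := Localization.natTrans_ext L W fun X => by
      show Φ'.map (η.app (L.obj X)) ≫ ε.app (Φ'.obj (L.obj X)) = 𝟙 (Φ'.obj (L.obj X))
      rw [hη, ← L.map_comp]
      have h1 := e.hom.naturality (a.unit.app X ≫ Ψ.map (e.inv.app X))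
      have h2 : Φ.map (Ψ.map (e.inv.app X)) ≫ a.counit.app (Φ'.obj (L.obj X)) =
          a.counit.app (Φ.obj X) ≫ e.inv.app X := a.counit.naturality (e.inv.app X)
      dsimp at h1
      simp only [ε, NatTrans.comp_app, Functor.associator_hom_app, Functor.whiskerLeft_app]
      refine (congrArg (Φ'.map _ ≫ ·) (Category.id_comp _)).trans ?_
      rw [← Category.assoc, h1, Category.assoc, Φ.map_comp, Category.assoc, h2,
        a.left_triangle_components_assoc, Iso.hom_inv_id_app]
      rfl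
    exact fun Y => congr_app hτ Y
  have hright : ∀ Y, η.app (L.obj (Ψ.obj Y)) ≫ L.map (Ψ.map (ε.app Y)) = 𝟙 (L.obj (Ψ.obj Y)) := by
    intro Y
    rw [hη, ← L.map_comp, ← L.map_comp]
    have h : e.inv.app (Ψ.obj Y) ≫ ε.app Y = a.counit.app Y := by
      simp only [ε, NatTrans.comp_app, Functor.associator_hom_app, Functor.whiskerLeft_app]
      refine (congrArg (_ ≫ ·) (Category.id_comp _)).trans ?_
      exact (Category.assoc _ _ _).symm.trans ((congrArg (· ≫ _) (e.inv_hom_id_app _)).trans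
        (Category.id_comp _))
    refine (congrArg L.map ?_).trans (L.map_id _)
    refine (Category.assoc _ _ _).trans ?_
    exact (congrArg (a.unit.app _ ≫ ·) ((Ψ.map_comp _ _).symm.trans (congrArg Ψ.map h))).trans
      (a.right_triangle_components Y)
  exact ⟨{ unit := η
           counit := ε
           left_triangle_components := hleft
           right_triangle_components := hright }⟩

end General

end Groth.Agent.SiteBase.RpushD
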